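import Cfsg.Agent.H0.MU62.D
import Cfsg.Agent.H0.TCU624.Main
import Cfsg.Agent.H0.TCU623.Main
import Cfsg.Agent.H0.TCU622.Main
import Cfsg.Agent.H0.TCU621.Main
import Cfsg.Agent.H0.TCU620.Main
set_option maxRecDepth 100000
set_option Elab.async false
set_option linter.unusedSectionVars false
namespace H0.MU62
open H0 BN 
theorem rels : ∀ r ∈ B, ev R.p r = 1 := all_take_done (all_take_step (all_take_zero _ B) (rels_of_relsW R c0)) (by decide +kernel)
theorem defs_ok : DefsOK R.p defs 16 := defsOK_of_chk c1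
variable {G : Type} [Group G] (P : Pres G 16 B)
noncomputable def m : Model G := P.model defs R rels (by decide +kernel) defs_ok R_ge
include P
theorem mR : (m P).R = R := rfl
theorem g_eq {x : ℕ} (h : x < 16) : (m P).g x = P.g x := extG_out defs P.g 16 (Or.inl h)
theorem top : gen (m P).g (lets 16) = ⊤ := (gen_extG defs P.g 16 (by decide)).trans P.top
theorem grel : ∀ r ∈ B, ev (m P).g r = 1 := rels_extG defs 16 (by decide +kernel) P.rel
theorem hi : ∀ x < 16, (m P).g x * (m P).g (inv x) = 1 := inv_of_invChk (grel P) (by decide +kernel)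
theorem upper : Finite G ∧ Nat.card G ≤ 9196830720 := card_of_top (top P) ((chain_step (σ := [[0], [1], [2], [3], [4], [5], [6], [7], [8], [9], [10], [11], [12], [13], [14], [15]]) (n := 672) H0.TCU620.main rfl rfl (rels_of_consChk (grel P) 16 inv (by decide +kernel)) (chain_step (σ := [[3], [4], [5], [6], [7], [8], [9], [10], [11], [12], [13], [14], [15]]) (n := 495) H0.TCU621.main rfl rfl (rels_of_consChk (grel P) 16 inv (by decide +kernel)) (chain_step (σ := [[6], [7], [8], [9], [10], [11], [12], [13], [14], [15]]) (n := 128) H0.TCU622.main rfl rfl (rels_of_consChk (grel P) 16 inv (by decide +kernel)) (chain_step (σ := [[10], [11], [12], [13], [14], [15]]) (n := 36) H0.TCU623.main rfl rfl (rels_of_consChk (grel P) 16 inv (by decide +kernel)) (chain_step (σ := [[14], [15]]) (n := 6) H0.TCU624.main rfl rfl (rels_of_consChk (grel P) 16 inv (by decide +kernel)) (chain_start _)))))).imp_right fun h => h.trans (by decide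 +kernel))
theorem fin : Finite G := (upper P).1
theorem card_base : Nat.card G = 9196830720 ∧ (m P).pst [53, 1, 49, 177, 0] = ⊥ :=
  haveI := fin P
  (m P).card_done ((m P).card_step (lo := 53) (d := 6) (Model.via _ (mR P) (fun R => Model.fixW R [1, 49, 177, 0] [[14], [15]]) c10) ((m P).inOrb_grow [0, 1, 0] ((m P).inOrb_self _ 53) (Model.via _ (mR P) (fun R => Model.growW R [[14], [15]] [0, 1, 0] (Nat.pow 2 53) (ival 53 6)) c11)) (Model.via _ (mR P) (fun R => Nat.ble (53 + 6) R.N) (by decide +kernel)) ((m P).card_step (lo := 1) (d := 36) (Model.via _ (mR P) (fun R => Model.fixW R [49, 177, 0] [[10], [12]]) c8) ((m P).inOrb_grow [0, 1, 0, 0, 1, 0, 1, 0, 1] ((m P).inOrb_self _ 1) (Model.via _ (mR P) (fun R => Model.growW R [[10], [12]] [0, 1, 0, 0, 1, 0, 1, 0, 1] (Nat.pow 2 1) (ival 1 36)) c9)) (Model.via _ (mR P) (fun R => Nat.ble (1 + 36) R.N) (by decide +kernel)) ((m P).card_step (lo := 49) (d := 128) (Model.via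 _ (mR P) (fun R => Model.fixW R [177, 0] [[6], [8]]) c6) ((m P).inOrb_grow [0, 1, 0, 1, 0, 0, 1, 0, 1, 0, 1, 0, 0, 0] ((m P).inOrb_self _ 49) (Model.via _ (mR P) (fun R => Model.growW R [[6], [8]] [0, 1, 0, 1, 0, 0, 1, 0, 1, 0, 1, 0, 0, 0] (Nat.pow 2 49) (ival 49 128)) c7)) (Model.via _ (mR P) (fun R => Nat.ble (49 + 128) R.N) (by decide +kernel)) ((m P).card_step (lo := 177) (d := 495) (Model.via _ (mR P) (fun R => Model.fixW R [0] [[3], [4]]) c4) ((m P).inOrb_grow [0, 1, 1, 1, 0, 1, 0, 1, 1, 1, 0, 1, 1, 0, 1, 1, 0, 1, 1, 0, 1, 1, 1, 0, 1] ((m P).inOrb_self _ 177) (Model.via _ (mR P) (fun R => Model.growW R [[3], [4]] [0, 1, 1, 1, 0, 1, 0, 1, 1, 1, 0, 1, 1, 0, 1, 1, 0, 1, 1, 0, 1, 1, 1, 0, 1] (Nat.pow 2 177) (ival 177 495)) c5)) (Model.via _ (mR P) (fun R => Nat.ble (177 + 495) R.N) (by decide +kernel)) ((m P).card_step (lo := 0) (d := 672) (Model.via _ (mR P) (fun R => Model.fixW R [] [[0], [1]]) c2) ((m P).inOrb_grow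 [1, 1, 0, 1, 1, 0, 1, 1, 0, 1, 1, 0, 1, 0, 1, 1, 0, 1, 1, 0, 1, 1, 0, 1, 1, 0, 1, 1, 1, 1, 1] ((m P).inOrb_self _ 0) (Model.via _ (mR P) (fun R => Model.growW R [[0], [1]] [1, 1, 0, 1, 1, 0, 1, 1, 0, 1, 1, 0, 1, 0, 1, 1, 0, 1, 1, 0, 1, 1, 0, 1, 1, 0, 1, 1, 1, 1, 1] (Nat.pow 2 0) (ival 0 672)) c3)) (Model.via _ (mR P) (fun R => Nat.ble (0 + 672) R.N) (by decide +kernel)) ((m P).card_start)))))) (upper P).2 (by decide +kernel)
theorem card : Nat.card G = 9196830720 := (card_base P).1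
theorem base : (m P).pst [53, 1, 49, 177, 0] = ⊥ := (card_base P).2
theorem inj : Function.Injective (m P).φ := (m P).inj_of_base (base P)
theorem trans : (m P).orb ⊤ 0 = Set.Ico 0 (0 + 672) :=
  (m P).orb_eq_ico' ((m P).inOrb_mono le_top ((m P).inOrb_grow [1, 1, 0, 1, 1, 0, 1, 1, 0, 1, 1, 0, 1, 0, 1, 1, 0, 1, 1, 0, 1, 1, 0, 1, 1, 0, 1, 1, 1, 1, 1] ((m P).inOrb_self _ 0) (Model.via _ (mR P) (fun R => Model.growW R [[0], [1]] [1, 1, 0, 1, 1, 0, 1, 1, 0, 1, 1, 0, 1, 0, 1, 1, 0, 1, 1, 0, 1, 1, 0, 1, 1, 0, 1, 1, 1, 1, 1] (Nat.pow 2 0) (ival 0 672)) c12))) (top P).ge (Model.via _ (mR P) (fun R => Model.invW R [[0], [1], [2], [3], [4], [5], [6], [7], [8], [9], [10], [11], [12], [13], [14], [15]] 0 672) c13) (by decide)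
theorem sub1 : (m P).InOrb (gen (m P).g [[3], [4]]) 102 (ival 1 176) := ((m P).inOrb_grow [0, 1, 1, 0, 1, 1, 0, 1, 1, 0, 1, 1, 0, 1, 1, 1, 0, 1] ((m P).inOrb_self _ 102) (Model.via _ (mR P) (fun R => Model.growW R [[3], [4]] [0, 1, 1, 0, 1, 1, 0, 1, 1, 0, 1, 1, 0, 1, 1, 1, 0, 1] (Nat.pow 2 102) (ival 1 176)) c15))
theorem sub177 : (m P).InOrb (gen (m P).g [[3], [4]]) 558 (ival 177 495) := ((m P).inOrb_grow [0, 1, 0, 1, 1, 1, 0, 1, 1, 0, 1, 1, 0, 1, 1, 0, 1, 1, 0, 1, 1, 1] ((m P).inOrb_self _ 558) (Model.via _ (mR P) (fun R => Model.growW R [[3], [4]] [0, 1, 0, 1, 1, 1, 0, 1, 1, 0, 1, 1, 0, 1, 1, 0, 1, 1, 0, 1, 1, 1] (Nat.pow 2 558) (ival 177 495)) c18))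
theorem coatom : IsCoatom ((m P).pst [0]) := (m P).coatom (trans P) (by decide) ((m P).maxUpTo_step ((m P).maxUpTo_step ((m P).maxUpTo_one 672) (Model.via _ (mR P) (fun R => Model.fixW R [0] [[3], [4]]) c14) (sub1 P) (Model.via _ (mR P) (fun R => Nat.ble (1 + 176) R.N) (by decide +kernel)) (Model.via _ (mR P) (fun R => Nat.ble (0 + 672) R.N) (by decide +kernel)) (Model.via _ (mR P) (fun R => mapsW R [1, 1, 0, 1] (Nat.pow 2 0) (Nat.pow 2 102)) c16) ((m P).inOrb_grow [0, 0, 1, 2, 0, 2, 0, 2, 1, 0, 2, 0, 2, 0, 2, 0, 0] ((m P).inOrb_self _ 0) (Model.via _ (mR P) (fun R => Model.growW R [[1, 1, 0, 1], [3], [4]] [0, 0, 1, 2, 0, 2, 0, 2, 1, 0, 2, 0, 2, 0, 2, 0, 0] (Nat.pow 2 0) (ival 0 672)) c17))) (Model.via _ (mR P) (fun R => Model.fixW R [0] [[3], [4]]) c14) (sub177 P) (Model.via _ (mR P) (fun R => Nat.ble (177 + 495) R.N) (by decide +kernel)) (Model.via _ (mR P) (fun R => Nat.ble (0 + 672) R.N) (by decide +kernel)) (Model.via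 _ (mR P) (fun R => mapsW R [1] (Nat.pow 2 0) (Nat.pow 2 558)) c19) ((m P).inOrb_grow [0, 0, 2, 0, 2, 1, 0, 2, 0, 2, 0, 1, 2, 0, 2, 0, 0] ((m P).inOrb_self _ 0) (Model.via _ (mR P) (fun R => Model.growW R [[1], [3], [4]] [0, 0, 2, 0, 2, 1, 0, 2, 0, 2, 0, 1, 2, 0, 2, 0, 0] (Nat.pow 2 0) (ival 0 672)) c20)))
theorem ng : ∀ N : Subgroup G, N.Normal → ev (m P).g [16] ∈ N → N = ⊤ :=
  ng_top (hi P) ngSt [16] (by decide) (all_take_done (all_take_step (all_take_zero _ ngR) ((m P).ev_one (inj P) (Model.via _ (mR P) (fun R => relsW R 0 R.lg ((ngR.drop 0).take 32)) c21))) (by decide +kernel)) (top P) (by decide)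
theorem card_stab : Nat.card ((m P).pst [0]) = 13685760 := (m P).card_stab (trans P) (by rw [card P]) (by decide)
theorem simple : IsSimpleGroup G :=
  haveI := fin P
  simple_of_coatom _ (coatom P) (fun N hN h => (m P).normal_le_stab (trans P) (base P) (by decide) N h)
    (ev (m P).g [16]) 7 (by rw [← ev_wpow]; exact (all_take_done (all_take_step (all_take_zero _ xR) ((m P).ev_one (inj P) (Model.via _ (mR P) (fun R => relsW R 0 R.lg ((xR.drop 0).take 1)) c22))) (by decide +kernel)) _ (List.mem_singleton_self _))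
    (by rw [card_stab P]; decide +kernel) (ng P)
end H0.MU62
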